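import Groth.Agent.GrLib8.CICoh.Regular
import Groth.Agent.GrLib8.SerreCorr.Std
import Groth.Agent.GrLib8.LesTools
import Groth.Agent.LC.Depth
import Groth.Agent.LC.Annihilator

/-!
# Local cohomology of the coordinate ring of a complete intersection
-/

set_option linter.unusedSectionVars false
set_option linter.style.haveILetI false
set_option maxHeartbeats 1000000

noncomputable section

universe u

open MvPolynomial DirectSum

namespace Groth.Agent.GrLib8.CICoh

open Groth.Agent.VarDim Groth.Agent.VarDim.ProjN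

variable {k : Type u} [Field k] {n r : ℕ} {a : Fin r → ℕ}
variable (G : ∀ j : Fin r, ↥(CohB1.polyGrading n k (a j)))

local notation "S" => MvPolynomial (Fin (n + 1)) k
local notation "𝒜z" => GrSyz.stdGr k (Fin (n + 1))

theorem isHomogeneous_forms_int : Submodule.IsHomogeneous (Ideal.ofList (forms G)) 𝒜z :=
  Ideal.homogeneous_span _ _ fun g hg => by
    obtain ⟨j, rfl⟩ := mem_forms G hg
    exact ⟨(a j : ℤ), RegTilde.mem_stdGr_natCast.2 (G j).2⟩

/-- The pieces of the coordinate ring. -/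
def Q : GrLC.GMod.{u} 𝒜z := quotGMod 𝒜z 𝒜z (Ideal.ofList (forms G)) (isHomogeneous_forms_int G)

theorem le_idealDepth_vertex : ((n + 1 : ℕ) : ℕ∞) ≤ LocCoh.idealDepth (vertex k n) S := by
  rw [LC.idealDepth_regular_eq_iInf_height]
  refine le_iInf₂ fun q hq => ?_
  rw [← height_vertex (k := k) (n := n)]
  exact Ideal.height_mono hq

theorem irrel_eq_vertex : (GrSyz.irrel 𝒜z).toIdeal = vertex k n :=
  (SerreCorr.irrel_eq_irrelevant (𝒜 := CohB1.polyGrading n k) fun _ _ => RegTilde.mem_stdGr_natCast).trans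
    irrelevant_eq_vertex

theorem Hcomp_eq_bot (ha : ∀ j, 1 ≤ a j)
    (hh : ∀ P : PrimeSpectrum S, Ideal.ofList (forms G) ≤ P.asIdeal → (r : ℕ∞) ≤ P.asIdeal.height)
    (E : GrLC.StarInjRes 𝒜z (Q G).gr) (i : ℕ) (hi : i + r < n + 1) (g : ℤ) :
    E.Hcomp (GrSyz.irrel 𝒜z) i g = ⊥ := by
  have hreg := isWeaklyRegular_of_height G ha hh
  have hne : ∀ x ∈ forms G, x ∈ vertex k n := fun x hx => by
    obtain ⟨j, rfl⟩ := mem_forms G hx
    rw [← irrel_eq_vertex]
    exact mem_irrel_of_pos _ (by exact_mod_cast ha j : (0 : ℤ) < a j) (RegTilde.mem_stdGr_natCast.2 (G j).2)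
  let I := Ideal.ofList (forms G)
  have hd := LC.idealDepth_quot_ofList (vertex k n) hreg hne
  let e : (S ⧸ (I • ⊤ : Submodule S S)) ≃ₗ[S] S ⧸ I :=
    Submodule.quotEquivOfEq _ _ (by rw [smul_eq_mul, Ideal.mul_top])
  have hdep : ((i + 1 : ℕ) : ℕ∞) ≤ LocCoh.idealDepth (vertex k n) (S ⧸ I) := by
    rw [← LC.idealDepth_congr (vertex k n) e]
    have h := le_idealDepth_vertex.trans hd.ge
    rw [show (forms G).length = r by simp [forms]] at h
    generalize LocCoh.idealDepth (vertex k n) (S ⧸ (I • ⊤ : Submodule S S)) = d at h ⊢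
    cases d with
    | top => exact le_top
    | coe d =>
      have h' : n + 1 ≤ d + r := by exact_mod_cast h
      exact_mod_cast (by omega : i + 1 ≤ d)
  have hsub := (LC.le_idealDepth_iff_H (vertex k n) (S ⧸ I) (i + 1)).1 hdep i (Nat.lt_succ_self i)
  haveI : Subsingleton (E.H (GrSyz.irrel 𝒜z) i) := by
    obtain ⟨φ⟩ := nonempty_H_equiv _ E (GrSyz.irrel 𝒜z) i
    rw [irrel_eq_vertex] at φ
    haveI : Subsingleton ((localCohomology (vertex k n) i).obj (ModuleCat.of S (Q G).carrier)) := hsub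
    exact φ.toEquiv.subsingleton
  exact Hcomp_eq_bot_of_subsingleton E _ i g

end Groth.Agent.GrLib8.CICoh
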