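import Groth.Agent.GrLib8.CICoh.QMap
import Groth.Agent.GrLib8.CICoh.Vanish
import Groth.Agent.GrModX.QCohTilde
import Groth.Agent.GrModX.MapProps
import Groth.Agent.LefPenLib.Hyp
import Groth.Agent.PnCoh.TwistQCoh
import Groth.Agent.QCoh.SubCompare
import Groth.Agent.QCoh.ClosedPush

/-!
# A complete intersection and its coordinate ring
-/

set_option linter.unusedSectionVars false
set_option linter.style.haveILetI false
set_option backward.isDefEq.respectTransparency false
set_option backward.isDefEq.respectTransparency.types false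
set_option maxHeartbeats 1000000

noncomputable section

universe u

open CategoryTheory CategoryTheory.Limits AlgebraicGeometry TopologicalSpace Opposite DirectSum MvPolynomial

namespace Groth.Agent.GrLib8.CICoh

variable {k : Type u} [Field k] {n r : ℕ} {a : Fin r → ℕ} (G : ∀ j : Fin r, LefPen.Form n k (a j))

local notation "S" => MvPolynomial (Fin (n + 1)) k
local notation "Pgr" => CohB1.polyGrading n k
local notation "𝒜z" => GrSyz.stdGr k (Fin (n + 1))

/-- The pieces of the coordinate ring in degrees `≥ 0`. -/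
abbrev QN : ℕ → AddSubgroup (Q G).carrier := fun i => (Q G).gr (i : ℤ)

instance : SetLike.GradedSMul Pgr (QN G) :=
  SerreCorr.gradedSMul_nat (fun _ _ => RegTilde.mem_stdGr_natCast) (Q G).gr

theorem QN_eq (i : ℕ) : QN G i = quotPieces Pgr (Ideal.ofList (forms G) : Submodule S S) i :=
  AddSubgroup.ext fun _ => exists_congr fun _ => and_congr_left' RegTilde.mem_stdGr_natCast

instance : Decomposition (QN G) :=
  decompositionOf (QN G)
    (fun x => iSup_mono (fun i => (QN_eq G i).ge) (quot_span Pgr (Ideal.ofList (forms G) : Submodule S S) x))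
    (fun s c hc hsum => quot_indep Pgr (Ideal.ofList (forms G) : Submodule S S) (isHomogeneous_forms G) s c
      (fun g hg => (QN_eq G g).le (hc g hg)) hsum)

/-- The generator. -/
def one' : (Q G).carrier := Submodule.Quotient.mk (1 : S)

theorem smul_one' (c : S) : c • one' G = (Submodule.Quotient.mk c : (Q G).carrier) := by
  show Submodule.Quotient.mk (c • (1 : S)) = _
  rw [smul_eq_mul, mul_one]

theorem smul_one'_eq_zero (c : S) : c • one' G = 0 ↔ c ∈ Ideal.ofList (forms G) := by
  rw [smul_one']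
  exact Submodule.Quotient.mk_eq_zero _

theorem hone : ∀ j : ℕ, ∀ c ∈ Pgr j, c • one' G ∈ QN G j := fun j c hc => by
  rw [smul_one']
  exact ⟨c, RegTilde.mem_stdGr_natCast.2 hc, rfl⟩

/-- The quotient map. -/
def φ (i : ℤ) : Twist.twist Pgr i ⟶ GrMod.tilde Pgr (QN G) i := qMapN Pgr (one' G) (hone G) i

theorem dehom_mem_ideal (l : Fin (n + 1)) (j : Fin r) :
    LefPen.dehom (G j) l ∈ (LefPen.ciIdeal G).ideal (LefPenLib.chartAff l) := by
  rw [LefPen.ciIdeal, Scheme.IdealSheafData.ideal_iSup, iSup_apply]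
  refine Ideal.mem_iSup_of_mem j ?_
  rw [LefPenLib.hypIdeal_chart]
  exact Ideal.mem_span_singleton_self _

theorem ideal_chart (l : Fin (n + 1)) : (LefPen.ciIdeal G).ideal (LefPenLib.chartAff l) =
    Ideal.span (Set.range fun j => LefPen.dehom (G j) l) := by
  refine le_antisymm ?_ (Ideal.span_le.2 ?_)
  · rw [LefPen.ciIdeal, Scheme.IdealSheafData.ideal_iSup, iSup_apply]
    refine iSup_le fun j => ?_
    rw [LefPenLib.hypIdeal_chart]
    exact Ideal.span_mono (Set.singleton_subset_iff.2 ⟨j, rfl⟩)
  · rintro _ ⟨j, rfl⟩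
    exact dehom_mem_ideal G l j

/-- The frame of `O(i)` on a chart. -/
def fr (i : ℤ) (l : Fin (n + 1)) : Γ(Twist.twist Pgr i, LefPen.chart n k l) :=
  PnCoh.twPow (LefPen.X_mem n k l) i (U := LefPen.chart n k l) (fun x => x.2)

theorem exists_smul_fr (i : ℤ) (l : Fin (n + 1)) (s : Γ(Twist.twist Pgr i, LefPen.chart n k l)) :
    ∃ h : Γ(CohB1.ProjSpace n k, LefPen.chart n k l), h • fr i l = s :=
  (PnCoh.trivMap_bijective (LefPen.X_mem n k l) i (U := LefPen.chart n k l) (fun x => x.2)).2 s

theorem val_φ_smul_fr (i : ℤ) (l : Fin (n + 1)) {q : ℕ} {c : S} (hc : c ∈ Pgr (q • 1))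
    (y : LefPen.chart n k l) :
    GrMod.val ((φ G i).app _
      ((Proj.awayToSection Pgr (X l) (HomogeneousLocalization.Away.mk Pgr (LefPen.X_mem n k l) q c hc) :
        Γ(CohB1.ProjSpace n k, LefPen.chart n k l)) • fr i l)) y =
      LocalizedModule.mk ((c * X l ^ i.toNat) • one' G)
        ⟨X l ^ q * X l ^ (-i).toNat, PnCoh.mul_notMem (PnCoh.pow_notMem y.2 q) (PnCoh.pow_notMem y.2 _)⟩ := by
  refine (qMapN_val Pgr (one' G) (hone G) i _ _ y).trans ?_
  refine (congrArg (RegTilde.qLoc Pgr (one' G) y.1) ?_).trans (RegTilde.qLoc_mk Pgr (one' G) y.1 _ _)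
  refine (Twist.coe_smul_val i y.1 _ _).trans ?_
  refine (congrArg₂ (· * ·) (GrModX.oval_awayToSection Pgr (LefPen.X_mem n k l) q hc y)
    (PnCoh.twPow_apply (LefPen.X_mem n k l) i (U := LefPen.chart n k l) (fun x => x.2) y)).trans ?_
  exact Localization.mk_mul _ _ _ _

theorem mk_smul_one'_eq_zero (l : Fin (n + 1)) {z : ℕ} {c : S} (hc : c ∈ Pgr z)
    (h : ∀ y : LefPen.chart n k l, ∃ s, (LocalizedModule.mk (c • one' G) s : GrMod.LocMod Pgr (M := (Q G).carrier) y.1) = 0) :
    ∃ K, X l ^ K * c ∈ Ideal.ofList (forms G) := by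
  obtain ⟨K, hK⟩ := GrModX.exists_pow_smul_eq_zero_of_mk Pgr Nat.one_pos (LefPen.X_mem n k l)
    (GrModX.deg_of_mem (hone G z c hc)) fun y hy => h ⟨y, hy⟩
  exact ⟨K, (smul_one'_eq_zero G _).1 (by rw [mul_smul]; exact hK)⟩

theorem φ_eq_zero_iff (i : ℤ) (l : Fin (n + 1)) (h : Γ(CohB1.ProjSpace n k, LefPen.chart n k l)) :
    (φ G i).app _ (h • fr i l) = 0 ↔ h ∈ (LefPen.ciIdeal G).ideal (LefPenLib.chartAff l) := by
  classical
  constructor
  · intro h0
    haveI : IsIso (Proj.awayToSection Pgr (X l : S)) :=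
      inferInstanceAs (IsIso (Proj.basicOpenIsoAway Pgr (X l) (LefPen.X_mem n k l) Nat.one_pos).hom)
    obtain ⟨z, rfl⟩ := (ConcreteCategory.bijective_of_isIso (Proj.awayToSection Pgr (X l : S))).2 h
    obtain ⟨q, c, hc, rfl⟩ := HomogeneousLocalization.Away.mk_surjective Pgr (LefPen.X_mem n k l) z
    have hc' : c * X l ^ i.toNat ∈ Pgr (q • 1 + i.toNat) :=
      SetLike.mul_mem_graded hc (PnCoh.pow_mem_one (LefPen.X_mem n k l) _)
    obtain ⟨K, hK⟩ := mk_smul_one'_eq_zero G l hc' fun y => ⟨_, (val_φ_smul_fr G i l hc y).symm.trans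
      (by rw [h0]; rfl)⟩
    obtain ⟨e, he⟩ : ∃ e, K + i.toNat = e := ⟨_, rfl⟩
    have hK' : X l ^ e * c ∈ Ideal.ofList (forms G) := by
      rw [← he, pow_add, show X l ^ K * X l ^ i.toNat * c = X l ^ K * (c * X l ^ i.toNat) by ring]
      exact hK
    rw [Ideal.ofList, show {x | x ∈ forms G} = Set.range fun j => (G j : S) from Set.ext fun x => List.mem_ofFn,
      Ideal.mem_span_range_iff_exists_fun] at hK'
    obtain ⟨v, hv⟩ := hK'
    let v' : Fin r → S := fun j => if a j ≤ e + q then (decompose Pgr (v j) (e + q - a j) : S) else 0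
    have hv' : ∑ j, v' j * (G j : S) = X l ^ e * c := by
      have hd : X l ^ e * c ∈ Pgr (e + q) := by
        have := SetLike.mul_mem_graded (PnCoh.pow_mem_one (LefPen.X_mem n k l) e) hc
        rwa [smul_eq_mul, mul_one] at this
      conv_rhs => rw [← decompose_of_mem_same Pgr hd, ← hv, decompose_sum,
        DirectSum.sum_apply, AddSubmonoidClass.coe_finsetSum]
      refine Finset.sum_congr rfl fun j _ => ?_
      by_cases hle : a j ≤ e + q
      · simp only [v', if_pos hle]
        rw [coe_decompose_mul_of_right_mem_of_le Pgr (G j).2 hle]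
      · simp only [v', if_neg hle, zero_mul]
        rw [coe_decompose_mul_of_right_mem_of_not_le Pgr (G j).2 hle]
    rw [ideal_chart]
    have key : HomogeneousLocalization.Away.mk Pgr (LefPen.X_mem n k l) q c hc =
        ∑ j, HomogeneousLocalization.Away.mk Pgr (LefPen.X_mem n k l) (e + q - a j) (v' j)
            (by rw [smul_eq_mul, mul_one]; by_cases hle : a j ≤ e + q
                · simp only [v', if_pos hle]; exact SetLike.coe_mem _
                · simp only [v', if_neg hle]; exact zero_mem _) *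
          HomogeneousLocalization.Away.mk Pgr (LefPen.X_mem n k l) (a j) (G j : S)
            (by rw [smul_eq_mul, mul_one]; exact (G j).2) := by
      refine HomogeneousLocalization.val_injective _ ?_
      refine Eq.trans ?_ (map_sum (algebraMap (HomogeneousLocalization.Away Pgr (X l : S))
        (Localization (Submonoid.powers (X l : S)))) _ _).symm
      simp only [HomogeneousLocalization.algebraMap_apply, HomogeneousLocalization.val_mul,
        HomogeneousLocalization.Away.val_mk, Localization.mk_mul]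
      rw [Finset.sum_congr rfl (g := fun j => Localization.mk (v' j * (G j : S))
          (⟨X l ^ (e + q), e + q, rfl⟩ : Submonoid.powers (X l : S))) fun j _ => ?_,
        ← Localization.mk_sum, hv', Localization.mk_eq_mk_iff, Localization.r_iff_exists]
      · exact ⟨1, by simp [pow_add]; ring⟩
      · by_cases hle : a j ≤ e + q
        · refine congrArg _ (Subtype.ext ?_)
          show X l ^ (e + q - a j) * X l ^ a j = X l ^ (e + q)
          rw [← pow_add, Nat.sub_add_cancel hle]
        · simp only [v', if_neg hle, zero_mul, Localization.mk_zero]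
    rw [key, map_sum]
    refine Ideal.sum_mem _ fun j _ => ?_
    rw [map_mul]
    exact Ideal.mul_mem_left _ _ (Ideal.subset_span ⟨j, rfl⟩)
  · intro hh
    rw [ideal_chart] at hh
    induction hh using Submodule.span_induction with
    | mem x hx =>
      obtain ⟨j, rfl⟩ := hx
      refine GrModX.ext_val Pgr (QN G) fun y => ?_
      refine (val_φ_smul_fr G i l _ y).trans ?_
      rw [(smul_one'_eq_zero G _).2 (Ideal.mul_mem_right _ _ (Ideal.subset_span (List.mem_ofFn.2 ⟨j, rfl⟩))),
        LocalizedModule.zero_mk]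
      rfl
    | zero => rw [zero_smul, map_zero]
    | add x y _ _ hx hy => rw [add_smul, map_add, hx, hy, add_zero]
    | smul c x _ hx => rw [smul_eq_mul, mul_smul, Scheme.Modules.Hom.app_smul, hx, smul_zero]

theorem φ_surjective (i : ℤ) (l : Fin (n + 1)) : Function.Surjective ((φ G i).app (LefPen.chart n k l)) := by
  intro s
  obtain ⟨q, m, hm, hval⟩ := GrModX.exists_frac Pgr (QN G) Nat.one_pos (LefPen.X_mem n k l) i s
  rcases hm with rfl | ⟨j, hj, hm⟩
  · refine ⟨0, ?_⟩
    rw [map_zero]
    refine GrModX.ext_val Pgr (QN G) fun y => ?_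
    refine Eq.trans ?_ (hval y).symm
    rw [LocalizedModule.zero_mk]
    rfl
  · obtain ⟨c, hc, hcm⟩ := hm
    have hc' : c ∈ Pgr (j • 1) := by rw [smul_eq_mul, mul_one]; exact RegTilde.mem_stdGr_natCast.1 hc
    refine ⟨(Proj.awayToSection Pgr (X l) (HomogeneousLocalization.Away.mk Pgr (LefPen.X_mem n k l) j c hc') :
        Γ(CohB1.ProjSpace n k, LefPen.chart n k l)) • fr i l, GrModX.ext_val Pgr (QN G) fun y => ?_⟩
    refine ((val_φ_smul_fr G i l hc' y).trans ?_).trans (hval y).symm
    have hm' : m = c • one' G := hcm.symm.trans (smul_one' G c).symm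
    rw [LocalizedModule.mk_eq]
    refine ⟨1, ?_⟩
    simp only [one_smul, Submonoid.smul_def, hm', smul_smul]
    refine congrArg (· • one' G) ?_
    have : j + (-i).toNat = q + i.toNat := by push_cast at hj; omega
    calc X l ^ q * (c * X l ^ i.toNat) = c * X l ^ (q + i.toNat) := by ring
      _ = X l ^ j * X l ^ (-i).toNat * c := by rw [← this]; ring

end Groth.Agent.GrLib8.CICoh
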