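import Groth.Agent.GrLib8.CICoh.Main
import Groth.Agent.H23.GeomConnGamma
import Groth.Agent.PicClLib.Basic
import Groth.Agent.PnCoh.Global
import Groth.Agent.PnCoh.Finite.TwistInv
import Groth.Agent.PnCoh.Chow.Proper

/-!
# A complete intersection of positive dimension is geometrically connected
-/

set_option linter.unusedSectionVars false
set_option linter.style.haveILetI false
set_option backward.isDefEq.respectTransparency false
set_option backward.isDefEq.respectTransparency.types false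
set_option maxHeartbeats 1000000

noncomputable section

universe u

open CategoryTheory CategoryTheory.Limits AlgebraicGeometry TopologicalSpace Opposite MvPolynomial

namespace Groth.Agent.GrLib8.CICoh

variable {k : Type u} [Field k] {n r : ℕ} {a : Fin r → ℕ} (G : ∀ j : Fin r, LefPen.Form n k (a j))

theorem exists_tw_zero :
    Nonempty (Twist.twistProjSpace n k 0 ≅ Coh.structureModule (CohB1.ProjSpace n k)) :=
  ⟨(@asIso _ _ _ _ _ (PnCoh.Finite.isIso_oneHom (𝒜 := CohB1.polyGrading n k)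
    (fun i : Fin (n + 1) => (MvPolynomial.X i : MvPolynomial (Fin (n + 1)) k)) (LefPen.X_mem n k)
    (LefPenLib.iSup_chart (r := n) (k := k)))).symm⟩

theorem surjective_unit_one (hr : r ≤ n) (ha : ∀ j, 1 ≤ a j)
    (hdim : topologicalKrullDim ↥(LefPen.ciIdeal G).subscheme = ((n - r : ℕ) : WithBot ℕ∞)) (h1 : 1 ≤ n - r) :
    Function.Surjective (((Scheme.Modules.pullbackPushforwardAdjunction (LefPen.ciIdeal G).subschemeι).unit.app
      (Coh.structureModule (CohB1.ProjSpace n k))).app ⊤) := by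
  obtain ⟨e⟩ := exists_tw_zero (k := k) (n := n)
  let F := Scheme.Modules.pullback (LefPen.ciIdeal G).subschemeι ⋙ Scheme.Modules.pushforward (LefPen.ciIdeal G).subschemeι
  intro y
  obtain ⟨x, hx⟩ := surjective_unit G hr ha hdim h1 0 ((F.map e.inv).app ⊤ y)
  refine ⟨e.hom.app ⊤ x, ?_⟩
  have h := congr(($((Scheme.Modules.pullbackPushforwardAdjunction (LefPen.ciIdeal G).subschemeι).unit.naturality e.hom)).app ⊤ x)
  refine (h : _).trans ?_
  refine (congrArg ((F.map e.hom).app ⊤) hx).trans ?_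
  exact congr(($((F.map_comp e.inv e.hom).symm.trans ((congrArg F.map e.inv_hom_id).trans (F.map_id _)))).app ⊤ y)

theorem bijective_appTop (hr : r ≤ n) (ha : ∀ j, 1 ≤ a j)
    (hdim : topologicalKrullDim ↥(LefPen.ciIdeal G).subscheme = ((n - r : ℕ) : WithBot ℕ∞)) (h1 : 1 ≤ n - r) :
    Function.Bijective ((LefPen.ciIdeal G).subschemeι ≫ CohB1.ProjSpace.toSpec n k).appTop := by
  let ι := (LefPen.ciIdeal G).subschemeι
  let P := CohB1.ProjSpace n k
  let X := (LefPen.ciIdeal G).subscheme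
  have hP : Function.Bijective (CohB1.ProjSpace.toSpec n k).appTop :=
    PnCoh.bijective_toSpecR_appTop (ι := Fin (n + 1)) (R := k)
  obtain ⟨e⟩ := PicClLib.nonempty_pullback_structureModule ι
  let u : Γ(Coh.structureModule P, ⊤) → Γ((Scheme.Modules.pushforward ι).obj
      ((Scheme.Modules.pullback ι).obj (Coh.structureModule P)), ⊤) :=
    ((Scheme.Modules.pullbackPushforwardAdjunction ι).unit.app (Coh.structureModule P)).app ⊤
  let g : Γ(X, ⊤) := ((Scheme.Modules.pushforward ι).map e.hom).app ⊤ (u (1 : Γ(P, ⊤)))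
  have key : ∀ y : Γ(X, ⊤), ∃ c : Γ(P, ⊤), y = ι.appTop c * g := by
    intro y
    obtain ⟨c, hc⟩ := surjective_unit_one G hr ha hdim h1
      (((Scheme.Modules.pushforward ι).map e.inv).app ⊤ (show Γ((Scheme.Modules.pushforward ι).obj (Coh.structureModule X), ⊤) from y))
    let c' : Γ(P, ⊤) := c
    refine ⟨c', ?_⟩
    have h2 : u c = c' • u (1 : Γ(P, ⊤)) := by
      refine Eq.trans (congrArg u ?_) (Scheme.Modules.Hom.app_smul _ _ _)
      exact (mul_one c').symm
    have h3 := congrArg (((Scheme.Modules.pushforward ι).map e.hom).app ⊤) (h2.symm.trans hc)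
    rw [Scheme.Modules.Hom.app_smul] at h3
    exact (h3.trans (congr(($(((Scheme.Modules.pushforward ι).map_comp e.inv e.hom).symm.trans
      ((congrArg (Scheme.Modules.pushforward ι).map e.inv_hom_id).trans ((Scheme.Modules.pushforward ι).map_id _)))).app ⊤ _))).symm
  haveI : Nonempty X := by
    by_contra h
    rw [not_nonempty_iff] at h
    haveI : IsEmpty (IrreducibleCloseds X) := ⟨fun s => s.isIrreducible'.nonempty.elim fun x _ => h.false x⟩
    rw [topologicalKrullDim, Order.krullDim_eq_bot] at hdim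
    exact WithBot.bot_ne_coe hdim
  haveI : Nontrivial Γ(X, ⊤) := by
    obtain ⟨x⟩ := ‹Nonempty X›
    exact (X.presheaf.germ ⊤ x trivial).hom.domain_nontrivial
  refine ⟨?_, fun y => ?_⟩
  · intro a b hab
    obtain ⟨a', rfl⟩ := (ConcreteCategory.bijective_of_isIso (Scheme.ΓSpecIso (CommRingCat.of k)).inv).2 a
    obtain ⟨b', rfl⟩ := (ConcreteCategory.bijective_of_isIso (Scheme.ΓSpecIso (CommRingCat.of k)).inv).2 b
    let ψ : k →+* Γ(X, ⊤) := ((ι ≫ CohB1.ProjSpace.toSpec n k).appTop.hom).comp (Scheme.ΓSpecIso (CommRingCat.of k)).inv.hom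
    exact congrArg _ (ψ.injective (hab : ψ a' = ψ b'))
  · obtain ⟨c₀, h₀⟩ := key 1
    have hu : IsUnit c₀ := by
      obtain ⟨t, rfl⟩ := hP.2 c₀
      obtain ⟨t', rfl⟩ := (ConcreteCategory.bijective_of_isIso (Scheme.ΓSpecIso (CommRingCat.of k)).inv).2 t
      have hs : (t' : k) ≠ 0 := fun h => one_ne_zero (h₀.trans (by
        rw [show (t' : k) = 0 from h, map_zero, map_zero, map_zero, zero_mul]))
      exact ((isUnit_iff_ne_zero.2 hs).map (Scheme.ΓSpecIso (CommRingCat.of k)).inv.hom).map _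
    obtain ⟨c, rfl⟩ := key y
    obtain ⟨s, hs⟩ := hP.2 (c * (hu.unit⁻¹ : Γ(P, ⊤)ˣ))
    refine ⟨s, ?_⟩
    rw [Scheme.Hom.comp_appTop, CommRingCat.comp_apply, hs, map_mul]
    calc ι.appTop c * ι.appTop ((hu.unit⁻¹ : Γ(P, ⊤)ˣ) : Γ(P, ⊤))
        = ι.appTop c * ι.appTop ((hu.unit⁻¹ : Γ(P, ⊤)ˣ) : Γ(P, ⊤)) * (ι.appTop c₀ * g) := by rw [← h₀, mul_one]
      _ = ι.appTop c * (ι.appTop (((hu.unit⁻¹ : Γ(P, ⊤)ˣ) : Γ(P, ⊤)) * c₀) * g) := by rw [map_mul]; ring
      _ = ι.appTop c * g := by rw [IsUnit.val_inv_mul, map_one, one_mul]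

theorem geometricallyConnected (hr : r ≤ n) (ha : ∀ j, 1 ≤ a j)
    (hdim : topologicalKrullDim ↥(LefPen.ciIdeal G).subscheme = ((n - r : ℕ) : WithBot ℕ∞)) (h1 : 1 ≤ n - r) :
    GeometricallyConnected ((LefPen.ciIdeal G).subschemeι ≫ CohB1.ProjSpace.toSpec n k) := by
  haveI := PnCoh.Chow.isProper_toSpec n k
  exact H23.GeomConnGamma.geometricallyConnected_of_gamma _ (bijective_appTop G hr ha hdim h1)

end Groth.Agent.GrLib8.CICoh
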