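import Groth.Agent.GrLib8.CICoh.Main

/-!
# Components of a complete intersection
-/

set_option linter.unusedSectionVars false
set_option linter.style.haveILetI false
set_option backward.isDefEq.respectTransparency false
set_option backward.isDefEq.respectTransparency.types false
set_option maxHeartbeats 1000000

noncomputable section

universe u

open CategoryTheory CategoryTheory.Limits AlgebraicGeometry TopologicalSpace Opposite MvPolynomial

namespace Groth.Agent.GrLib8.CICoh

open Groth.Agent.VarDim Groth.Agent.VarDim.ProjN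

variable {k : Type u} [Field k] {n r : ℕ} {a : Fin r → ℕ} (G : ∀ j : Fin r, LefPen.Form n k (a j))

local notation "S" => MvPolynomial (Fin (n + 1)) k
local notation "Pgr" => CohB1.polyGrading n k

theorem forms_mem_of_support {x : ↥(CohB1.ProjSpace n k)} (h : x ∈ (LefPen.ciIdeal G).support) (j : Fin r) :
    (G j : S) ∈ (pp x).asIdeal := by
  obtain ⟨l, hl⟩ := Opens.mem_iSup.1 ((LefPenLib.iSup_chart (r := n) (k := k)).ge (Set.mem_univ x))
  have h' := (((LefPen.ciIdeal G).coe_support_inter (LefPenLib.chartAff l)).le ⟨h, hl⟩).1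
  rw [ideal_chart, Scheme.zeroLocus_span, Scheme.mem_zeroLocus_iff] at h'
  by_contra hj
  refine h' (LefPen.dehom (G j) l) ⟨j, rfl⟩
    ((GrModX.basicOpen_awayToSection Pgr (LefPen.X_mem n k l) (a j) (a := (G j : S))
      (by rw [smul_eq_mul, mul_one]; exact (G j).2)).ge fun hx => ?_)
  exact ((pp x).2.mem_or_mem hx).elim hl hj

theorem height_le_of_minimal {P : Ideal S} (hP : P ∈ (Ideal.ofList (forms G)).minimalPrimes) :
    P.height ≤ (r : ℕ∞) := by
  classical
  have h := Ideal.height_le_card_of_mem_minimalPrimes_span_finset (s := (forms G).toFinset) (p := P) (by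
    have e : Ideal.span ((forms G).toFinset : Set S) = Ideal.ofList (forms G) :=
      congrArg Ideal.span (Set.ext fun x => List.mem_toFinset)
    rw [e]; exact hP)
  refine h.trans (Nat.cast_le.2 ?_)
  exact (forms G).toFinset_card_le.trans_eq (by simp [forms])

theorem topologicalKrullDim_component (hr : r ≤ n)
    (hdim : topologicalKrullDim ↥(LefPen.ciIdeal G).subscheme = ((n - r : ℕ) : WithBot ℕ∞))
    (Z : Set ↥(LefPen.ciIdeal G).subscheme) (hZ : Z ∈ irreducibleComponents ↥(LefPen.ciIdeal G).subscheme) :
    topologicalKrullDim ↥Z = ((n - r : ℕ) : WithBot ℕ∞) := by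
  let Y : Set ↥(CohB1.ProjSpace n k) := Set.range (LefPen.ciIdeal G).subschemeι
  have hY : Y = ((LefPen.ciIdeal G).support : Set ↥(CohB1.ProjSpace n k)) := (LefPen.ciIdeal G).range_subschemeι
  have hYc : IsClosed Y := hY ▸ (LefPen.ciIdeal G).support.isClosed
  let h : ↥(LefPen.ciIdeal G).subscheme ≃ₜ Y :=
    (LefPen.ciIdeal G).subschemeι.isClosedEmbedding.isEmbedding.toHomeomorph
  have hC : h '' Z ∈ irreducibleComponents Y := by
    refine ⟨hZ.1.image h h.continuous.continuousOn, fun D hD hle => ?_⟩
    have := hZ.2 (show IsIrreducible (h.symm '' D) from hD.image h.symm h.symm.continuous.continuousOn)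
      (fun z hz => ⟨h z, hle ⟨z, hz, rfl⟩, h.symm_apply_apply z⟩)
    intro d hd
    exact ⟨h.symm d, this ⟨d, hd, rfl⟩, h.apply_symm_apply d⟩
  obtain ⟨c, hcY, hmin, hdimC⟩ := exists_minimal_of_mem_irreducibleComponents hYc hC
  have hdimZ : topologicalKrullDim ↥Z = pdim c :=
    (h.isEmbedding.homeomorphImage Z).isHomeomorph.topologicalKrullDim_eq.trans hdimC
  rw [hdimZ]
  have hle : Ideal.ofList (forms G) ≤ (pp c).asIdeal := Ideal.span_le.2 fun g hg => by
    obtain ⟨j, rfl⟩ := mem_forms G hg
    exact forms_mem_of_support G (hY.le hcY) j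
  have hP := mem_minimalPrimes_of_minimal (isHomogeneous_forms G) hle fun d hd hdc =>
    hmin d (hY.ge (mem_of_support G fun j => hd (Ideal.subset_span (List.mem_ofFn.2 ⟨j, rfl⟩)))) hdc
  have h1 := le_topologicalKrullDim hYc hcY
  have h2 : topologicalKrullDim Y = ((n - r : ℕ) : WithBot ℕ∞) := by
    rw [← hdim]
    exact h.isHomeomorph.topologicalKrullDim_eq.symm
  have h3 : pdim c ≤ n - r := by exact_mod_cast h1.trans h2.le
  have h4 := height_add_coheight_pp (pp c)
  rw [coheight_pp_eq, ← PrimeSpectrum.height_eq_orderHeight] at h4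
  have h5 := height_le_of_minimal G hP
  generalize (pp c).asIdeal.height = e at h4 h5
  cases e with
  | top => simp at h5
  | coe e =>
    have h4' : e + (pdim c + 1) = n + 1 := by exact_mod_cast h4
    have h5' : e ≤ r := by exact_mod_cast h5
    exact_mod_cast (by omega : pdim c = n - r)

end Groth.Agent.GrLib8.CICoh
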