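import Groth.Agent.GrLib8.CICoh.Chart
import Groth.Agent.GrLib8.SerreCorr.Compare
import Groth.Agent.GrLib8.Res
import Groth.Agent.PnCoh.PushNat

/-!
# Cohomology of the twists of a complete intersection
-/

set_option linter.unusedSectionVars false
set_option linter.style.haveILetI false
set_option backward.isDefEq.respectTransparency false
set_option backward.isDefEq.respectTransparency.types false
set_option maxHeartbeats 1000000

noncomputable section

universe u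

open CategoryTheory CategoryTheory.Limits AlgebraicGeometry TopologicalSpace Opposite DirectSum MvPolynomial

namespace Groth.Agent.GrLib8.CICoh

open Groth.Agent.VarDim Groth.Agent.VarDim.ProjN

theorem exists_iso_of_same_kernel {X : Scheme.{u}} {A B₁ B₂ : X.Modules} (hA : Coh.IsQCoh A) (h₁ : Coh.IsQCoh B₁)
    (h₂ : Coh.IsQCoh B₂) (g₁ : A ⟶ B₁) (g₂ : A ⟶ B₂) {κ : Type} (U : κ → X.Opens) (haff : ∀ l, IsAffineOpen (U l))
    (hU : ∀ x : X, ∃ l, x ∈ U l) (hs₁ : ∀ l, Function.Surjective (g₁.app (U l)))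
    (hs₂ : ∀ l, Function.Surjective (g₂.app (U l))) (hk : ∀ l x, g₁.app (U l) x = 0 ↔ g₂.app (U l) x = 0) :
    ∃ e : B₁ ≅ B₂, g₁ ≫ e.hom = g₂ := by
  have hepi : ∀ {B : X.Modules} (g : A ⟶ B), Coh.IsQCoh B → (∀ l, Function.Surjective (g.app (U l))) → Epi g := by
    intro B g hB hs
    refine Abelian.epi_of_cokernel_π_eq_zero g ?_
    refine QCoh.hom_eq_zero_of_cover hB (QCoh.isQCoh_cokernel hA hB g) _ U haff hU fun l x => ?_
    obtain ⟨y, rfl⟩ := hs l x
    exact congr(($(cokernel.condition g)).app (U l) y)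
  haveI := hepi g₁ h₁ hs₁
  haveI := hepi g₂ h₂ hs₂
  have k₁ : kernel.ι g₁ ≫ g₂ = 0 := QCoh.hom_eq_zero_of_cover (QCoh.isQCoh_kernel hA h₁ g₁) h₂ _ U haff hU
    fun l x => (hk l _).1 (congr(($(kernel.condition g₁)).app (U l) x))
  have k₂ : kernel.ι g₂ ≫ g₁ = 0 := QCoh.hom_eq_zero_of_cover (QCoh.isQCoh_kernel hA h₂ g₂) h₁ _ U haff hU
    fun l x => (hk l _).2 (congr(($(kernel.condition g₂)).app (U l) x))
  refine ⟨⟨Abelian.epiDesc g₁ g₂ k₁, Abelian.epiDesc g₂ g₁ k₂, ?_, ?_⟩, Abelian.comp_epiDesc _ _ _⟩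
  · rw [← cancel_epi g₁, Abelian.comp_epiDesc_assoc, Abelian.comp_epiDesc, Category.comp_id]
  · rw [← cancel_epi g₂, Abelian.comp_epiDesc_assoc, Abelian.comp_epiDesc, Category.comp_id]

variable {k : Type u} [Field k] {n r : ℕ} {a : Fin r → ℕ} (G : ∀ j : Fin r, LefPen.Form n k (a j))

local notation "S" => MvPolynomial (Fin (n + 1)) k
local notation "Pgr" => CohB1.polyGrading n k
local notation "𝒜z" => GrSyz.stdGr k (Fin (n + 1))

theorem exists_iso (i : ℤ) :
    ∃ e : GrMod.tilde Pgr (QN G) i ≅ (Scheme.Modules.pushforward (LefPen.ciIdeal G).subschemeι).obj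
        ((Scheme.Modules.pullback (LefPen.ciIdeal G).subschemeι).obj (Twist.twistProjSpace n k i)),
      φ G i ≫ e.hom = (Scheme.Modules.pullbackPushforwardAdjunction (LefPen.ciIdeal G).subschemeι).unit.app
        (Twist.twistProjSpace n k i) := by
  have hT : Coh.IsQCoh (Twist.twistProjSpace n k i) := PnCoh.isQCoh_twist_mvPolynomial (Fin (n + 1)) k i
  refine exists_iso_of_same_kernel hT (GrModX.isQCoh_tilde Pgr (ℳ := QN G) i)
    (QCoh.isQCoh_pushforward _ (QCoh.isQCoh_pullback _ hT)) (φ G i) _ (LefPen.chart n k)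
    (fun l => (LefPenLib.chartAff l).2) (fun x => ?_) (φ_surjective G i)
    (fun l => (QCoh.unit_app_closed _ hT (LefPenLib.chartAff l).2).1) fun l x => ?_
  · exact Opens.mem_iSup.1 ((LefPenLib.iSup_chart (r := n) (k := k)).ge (Set.mem_univ x))
  obtain ⟨h, rfl⟩ := exists_smul_fr i l x
  refine (φ_eq_zero_iff G i l h).trans (Iff.trans ?_ ((QCoh.unit_app_closed _ hT (LefPenLib.chartAff l).2).2 _).symm)
  rw [Scheme.IdealSheafData.ker_subschemeι]
  refine ⟨fun hh => Submodule.smul_mem_smul hh trivial, fun hh => ?_⟩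
  let R := Γ(CohB1.ProjSpace n k, (LefPenLib.chartAff l).1)
  let f₀ : Γ(Twist.twistProjSpace n k i, (LefPenLib.chartAff l).1) := fr i l
  let L : R →ₗ[R] Γ(Twist.twistProjSpace n k i, (LefPenLib.chartAff l).1) := LinearMap.toSpanSingleton R _ f₀
  have hL : Function.Bijective L :=
    PnCoh.trivMap_bijective (LefPen.X_mem n k l) i (U := LefPen.chart n k l) (fun x => x.2)
  let I : Ideal R := (LefPen.ciIdeal G).ideal (LefPenLib.chartAff l)
  have hh' : L h ∈ I • (⊤ : Submodule R Γ(Twist.twistProjSpace n k i, (LefPenLib.chartAff l).1)) := hh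
  rw [← LinearMap.range_eq_top.2 hL.2, ← Submodule.map_top, ← Submodule.map_smul'', smul_eq_mul, Ideal.mul_top] at hh'
  obtain ⟨c, hc, hce⟩ := hh'
  exact hL.1 hce ▸ hc

theorem mem_of_support {x : ↥(CohB1.ProjSpace n k)} (h : ∀ j, (G j : S) ∈ (pp x).asIdeal) :
    x ∈ (LefPen.ciIdeal G).support := by
  obtain ⟨l, hl⟩ := Opens.mem_iSup.1 ((LefPenLib.iSup_chart (r := n) (k := k)).ge (Set.mem_univ x))
  refine (((LefPen.ciIdeal G).coe_support_inter (LefPenLib.chartAff l)).ge ⟨?_, hl⟩).1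
  rw [ideal_chart, Scheme.zeroLocus_span, Scheme.mem_zeroLocus_iff]
  rintro _ ⟨j, rfl⟩ hj
  have := (GrModX.basicOpen_awayToSection Pgr (LefPen.X_mem n k l) (a j) (a := (G j : S))
    (by rw [smul_eq_mul, mul_one]; exact (G j).2)).le hj
  exact this (Ideal.mul_mem_left _ _ (h j))

theorem le_height_of_dim (hr : r ≤ n)
    (hdim : topologicalKrullDim ↥(LefPen.ciIdeal G).subscheme = ((n - r : ℕ) : WithBot ℕ∞))
    (P : PrimeSpectrum S) (hP : Ideal.ofList (forms G) ≤ P.asIdeal) : (r : ℕ∞) ≤ P.asIdeal.height := by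
  obtain ⟨Q, hQ, hQP⟩ := Ideal.exists_minimalPrimes_le hP
  refine le_trans ?_ (Ideal.height_mono hQP)
  by_cases hv : Q = vertex k n
  · rw [hv, height_vertex]
    exact_mod_cast (by omega : r ≤ n + 1)
  obtain ⟨x, hx⟩ := exists_point_minimal (isHomogeneous_forms G) hQ hv
  have hmem : x ∈ ((LefPen.ciIdeal G).support : Set (CohB1.ProjSpace n k)) :=
    mem_of_support G fun j => hx ▸ hQ.1.2 (Ideal.subset_span (List.mem_ofFn.2 ⟨j, rfl⟩))
  have h1 := le_topologicalKrullDim (Z := ((LefPen.ciIdeal G).support : Set (CohB1.ProjSpace n k)))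
    (LefPen.ciIdeal G).support.isClosed hmem
  have h2 : topologicalKrullDim ((LefPen.ciIdeal G).support : Set (CohB1.ProjSpace n k)) =
      ((n - r : ℕ) : WithBot ℕ∞) := by
    rw [← hdim, ← (LefPen.ciIdeal G).range_subschemeι]
    exact ((LefPen.ciIdeal G).subschemeι.isClosedEmbedding.isEmbedding.toHomeomorph).isHomeomorph.topologicalKrullDim_eq.symm
  have h3 : pdim x ≤ n - r := by exact_mod_cast h1.trans h2.le
  have h4 := height_add_coheight_pp (pp x)
  rw [coheight_pp_eq, ← PrimeSpectrum.height_eq_orderHeight, hx] at h4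
  generalize Q.height = e at h4 ⊢
  cases e with
  | top => exact le_top
  | coe e =>
    have : e + (pdim x + 1) = n + 1 := by exact_mod_cast h4
    exact_mod_cast (by omega : r ≤ e)

theorem subsingleton_HH (hr : r ≤ n) (ha : ∀ j, 1 ≤ a j)
    (hdim : topologicalKrullDim ↥(LefPen.ciIdeal G).subscheme = ((n - r : ℕ) : WithBot ℕ∞)) (i : ℤ) (p : ℕ)
    (hp : 0 < p) (hpn : p < n - r) :
    Subsingleton (Coh.HH (LefPen.ciIdeal G).subscheme
      ((Scheme.Modules.pullback (LefPen.ciIdeal G).subschemeι).obj (Twist.twistProjSpace n k i)) p) := by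
  obtain ⟨p, rfl⟩ : ∃ q, p = q + 1 := ⟨p - 1, by omega⟩
  let E := starRes (𝒜 := 𝒜z) (Q G).gr
  haveI := fun q => SerreCorr.gradedSMul_nat (𝒜 := Pgr) (fun _ _ => RegTilde.mem_stdGr_natCast) (E.X q).gr
  haveI : AlgebraicGeometry.IsNoetherian (Proj Pgr) := Proj16.isNoetherian_proj _
  have h := (SerreCorr.subsingleton_HH_tilde_iff (𝒜 := Pgr) (fun _ _ => RegTilde.mem_stdGr_natCast)
    (stdGr_nonneg k _) E (SerreCorr.irrel_eq_irrelevant fun _ _ => RegTilde.mem_stdGr_natCast) i p).2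
    (Hcomp_eq_bot G ha (le_height_of_dim G hr hdim) E (p + 2) (by omega) i)
  obtain ⟨e, -⟩ := exists_iso G i
  have h' := QCoh.subsingleton_HH_of_iso e (p + 1) h
  letI : (CohB1.ProjSpace n k).Over (Spec (CommRingCat.of k)) := ⟨CohB1.ProjSpace.toSpec n k⟩
  letI : (LefPen.ciIdeal G).subscheme.Over (Spec (CommRingCat.of k)) :=
    ⟨(LefPen.ciIdeal G).subschemeι ≫ CohB1.ProjSpace.toSpec n k⟩
  obtain ⟨f⟩ := PnCoh.exists_linearEquiv_push k (LefPen.ciIdeal G).subschemeι rfl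
    (QCoh.isQCoh_pullback _ (PnCoh.isQCoh_twist_mvPolynomial (Fin (n + 1)) k i) :
      Coh.IsQCoh ((Scheme.Modules.pullback (LefPen.ciIdeal G).subschemeι).obj (Twist.twistProjSpace n k i))) (p + 1)
  exact @Equiv.subsingleton _ _ f.toEquiv h'

theorem surjective_unit (hr : r ≤ n) (ha : ∀ j, 1 ≤ a j)
    (hdim : topologicalKrullDim ↥(LefPen.ciIdeal G).subscheme = ((n - r : ℕ) : WithBot ℕ∞)) (h1 : 1 ≤ n - r) (i : ℤ) :
    Function.Surjective (((Scheme.Modules.pullbackPushforwardAdjunction (LefPen.ciIdeal G).subschemeι).unit.app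
      (Twist.twistProjSpace n k i)).app ⊤) := by
  let E := starRes (𝒜 := 𝒜z) (Q G).gr
  haveI := fun q => SerreCorr.gradedSMul_nat (𝒜 := Pgr) (fun _ _ => RegTilde.mem_stdGr_natCast) (E.X q).gr
  haveI : AlgebraicGeometry.IsNoetherian (Proj Pgr) := Proj16.isNoetherian_proj _
  have h := (SerreCorr.surjective_gs_iff (𝒜 := Pgr) (fun _ _ => RegTilde.mem_stdGr_natCast)
    (stdGr_nonneg k _) E (SerreCorr.irrel_eq_irrelevant fun _ _ => RegTilde.mem_stdGr_natCast) i).2
    (Hcomp_eq_bot G ha (le_height_of_dim G hr hdim) E 1 (by omega) i)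
  obtain ⟨e, he⟩ := exists_iso G i
  intro y
  obtain ⟨m, hm, hmy⟩ := h (e.inv.app ⊤ y)
  suffices ∃ σ, (φ G i).app ⊤ σ = e.inv.app ⊤ y by
    obtain ⟨σ, hσ⟩ := this
    refine ⟨σ, ?_⟩
    rw [← he]
    refine (congrArg (e.hom.app ⊤) hσ).trans ?_
    exact congr(($(e.inv_hom_id)).app ⊤ y)
  obtain ⟨c, hc, hcm⟩ := hm
  rcases lt_or_ge i 0 with hi | hi
  · refine ⟨0, (map_zero _).trans ?_⟩
    rw [← hmy]
    refine GrModX.ext_val Pgr (QN G) fun y => ?_
    have hm0 : m = 0 := by rw [← hcm, stdGr_nonneg k _ i hi c hc]; rfl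
    refine Eq.trans ?_ (SerreCorr.val_globSect (𝒜 := Pgr) (ℳ := QN G) i m _ y).symm
    rw [hm0, LocalizedModule.zero_mk]
    rfl
  · obtain ⟨d, rfl⟩ := Int.eq_ofNat_of_zero_le hi
    refine ⟨Twist.globalOf (𝒜 := Pgr) ⟨c, RegTilde.mem_stdGr_natCast.1 hc⟩, ?_⟩
    rw [← hmy]
    refine GrModX.ext_val Pgr (QN G) fun y => ?_
    refine (qMapN_val Pgr (one' G) (hone G) d _ _ y).trans ?_
    refine (RegTilde.qLoc_mk Pgr (one' G) y.1 c ⟨1, _⟩).trans ?_
    refine Eq.trans ?_ (SerreCorr.val_globSect (𝒜 := Pgr) (ℳ := QN G) (d : ℤ) m _ y).symm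
    rw [smul_one', show (Submodule.Quotient.mk c : (Q G).carrier) = m from hcm]
    rfl

end Groth.Agent.GrLib8.CICoh
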