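import Groth.Agent.GrLib8.RegTilde.Coord

/-!
# Maps from twisting sheaves to twisted `M~`
-/

set_option linter.unusedSectionVars false
set_option linter.style.haveILetI false

noncomputable section

universe u

open CategoryTheory AlgebraicGeometry TopologicalSpace Opposite

namespace Groth.Agent.GrLib8.CICoh

variable {R A : Type u} [CommRing R] [CommRing A] [Algebra R A] (𝒜 : ℕ → Submodule R A) [GradedAlgebra 𝒜]
variable {N τ : Type u} [AddCommGroup N] [Module A N] [SetLike τ N] [AddSubgroupClass τ N] {𝒩 : ℕ → τ}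
  [SetLike.GradedSMul 𝒜 𝒩]
variable (w : N) (hw : ∀ j : ℕ, ∀ a ∈ 𝒜 j, a • w ∈ 𝒩 j) (n : ℤ)

include hw in
theorem qLoc_mem (x : ProjectiveSpectrum 𝒜) {q : Twist.Loc 𝒜 x} (hq : q ∈ Twist.twistAt 𝒜 n x) :
    RegTilde.qLoc 𝒜 w x q ∈ GrMod.tildeAt 𝒜 𝒩 n x := by
  induction hq using Submodule.span_induction with
  | mem q h =>
    obtain ⟨i, j, a, s, hs, hij, rfl⟩ := h
    rw [RegTilde.qLoc_mk]
    exact Submodule.subset_span ⟨i, j, ⟨a.1 • w, hw i a.1 a.2⟩, s, hs, hij, rfl⟩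
  | zero => rw [map_zero]; exact zero_mem _
  | add q q' _ _ h h' => rw [map_add]; exact add_mem h h'
  | smul c q _ h =>
    have h1 : RegTilde.qLoc 𝒜 w x (c • q) = c.val • RegTilde.qLoc 𝒜 w x q := by
      rw [Algebra.smul_def, HomogeneousLocalization.algebraMap_apply, ← smul_eq_mul, map_smul]
    rw [h1, ← GrMod.a0_smul_def]
    exact Submodule.smul_mem _ c h

/-- The map on sections. -/
def qApp {U : (Opens (ProjectiveSpectrum.top 𝒜))ᵒᵖ} (f : Twist.sectN (𝒜 := 𝒜) n U) :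
    GrMod.sect 𝒜 𝒩 n U :=
  ⟨fun x => ⟨RegTilde.qLoc 𝒜 w x.1 (f.1 x).1, qLoc_mem 𝒜 w hw n x.1 (f.1 x).2⟩, fun x => by
    obtain ⟨V, mV, iV, i, j, a, s, nin, c, h⟩ := f.2 x
    refine ⟨V, mV, iV, i, j, ⟨a.1 • w, hw i a.1 a.2⟩, s, nin, ?_, fun y => ?_⟩
    · rcases c with c | c
      · exact Or.inl c
      · exact Or.inr (show a.1 • w = 0 by rw [c, zero_smul])
    · show RegTilde.qLoc 𝒜 w y.1 (f.1 (iV y)).1 = _
      exact (congrArg (RegTilde.qLoc 𝒜 w y.1) (h y)).trans (RegTilde.qLoc_mk 𝒜 w y.1 _ _)⟩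

/-- `O(n) ⟶ M(n)~` attached to an element of degree zero. -/
def qMapN : Twist.twist 𝒜 n ⟶ GrMod.tilde 𝒜 𝒩 n :=
  ⟨PresheafOfModules.homMk
    { app := fun _ => AddCommGrpCat.ofHom
        { toFun := qApp 𝒜 w hw n
          map_zero' := Subtype.ext (funext fun x => Subtype.ext (map_zero (RegTilde.qLoc 𝒜 w x.1)))
          map_add' := fun f g => Subtype.ext (funext fun x => Subtype.ext
            (map_add (RegTilde.qLoc 𝒜 w x.1) (f.1 x).1 (g.1 x).1)) }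
      naturality := fun _ _ _ => rfl }
    fun U r f => Subtype.ext (funext fun x => Subtype.ext (by
      refine (congrArg (RegTilde.qLoc 𝒜 w x.1) (Twist.coe_smul_val n x.1 (r.1 x) (f.1 x))).trans ?_
      exact map_smul (RegTilde.qLoc 𝒜 w x.1) (r.1 x).val (f.1 x).1))⟩

theorem qMapN_val (V : (Proj 𝒜).Opens) (f : Γ(Twist.twist 𝒜 n, V)) (y : V) :
    GrMod.val ((qMapN 𝒜 w hw n).app V f) y =
      RegTilde.qLoc 𝒜 w y.1 ((f : Twist.sectN (𝒜 := 𝒜) n (op V)).1 y).1 := rfl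

end Groth.Agent.GrLib8.CICoh
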