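import Groth.Agent.VarDim.Proj
import Groth.Agent.CotTLib.CI
import Groth.Agent.LC.AdjDepth
import Groth.Agent.LC.DepthExt
import Groth.Agent.LC.GorLoc
import Mathlib.RingTheory.RegularLocalRing.Polynomial

/-!
# Forms cutting out a set of the expected dimension form a regular sequence
-/

set_option linter.unusedSectionVars false
set_option linter.style.haveILetI false

noncomputable section

universe u

open MvPolynomial

namespace Groth.Agent.GrLib8.CICoh

open Groth.Agent.VarDim Groth.Agent.VarDim.ProjN

variable {k : Type u} [Field k] {n r : ℕ} {a : Fin r → ℕ}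

local notation "S" => MvPolynomial (Fin (n + 1)) k

theorem height_add_le {α β : Type*} [Preorder α] [Preorder β] (f : β → α) (hf : StrictMono f) (m : ℕ∞)
    (h : ∀ b, m ≤ Order.height (f b)) : ∀ (L : ℕ) (b : β), (L : ℕ∞) ≤ Order.height b → m + L ≤ Order.height (f b) := by
  intro L
  induction L with
  | zero => intro b _; simpa using h b
  | succ L ih =>
    intro b hb
    obtain ⟨l, hl, hlen⟩ := Order.exists_series_of_le_height b hb
    let c := l ⟨L, by omega⟩
    have hc : (L : ℕ∞) ≤ Order.height c := by
      simpa using Order.index_le_height l ⟨L, by omega⟩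
    have hcb : c < b := by
      rw [← hl]
      exact l.strictMono (by simp [Fin.lt_def, Fin.last, hlen])
    have h1 := ih c hc
    calc m + ((L + 1 : ℕ) : ℕ∞) = m + L + 1 := by push_cast; ring
      _ ≤ Order.height (f c) + 1 := add_le_add_left h1 1
      _ ≤ Order.height (f b) := Order.height_add_one_le (hf hcb)

theorem height_vertex : (vertex k n).height = (n + 1 : ℕ) := by
  have h := height_add_coheight_pp (vertexPoint k n)
  rw [coheight_vertexPoint, add_zero, ← PrimeSpectrum.height_eq_orderHeight] at h
  exact h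

variable (G : ∀ j : Fin r, ↥(CohB1.polyGrading n k (a j)))

/-- The forms as a list. -/
def forms : List (MvPolynomial (Fin (n + 1)) k) := List.ofFn fun j => (G j : S)

theorem mem_forms {g : S} (hg : g ∈ forms G) : ∃ j, (G j : S) = g := List.mem_ofFn.1 hg

theorem isHomogeneous_forms : (Ideal.ofList (forms G)).IsHomogeneous (CohB1.polyGrading n k) :=
  Ideal.homogeneous_span _ _ fun g hg => by
    obtain ⟨j, rfl⟩ := mem_forms G hg
    exact ⟨a j, (G j).2⟩

theorem isWeaklyRegular_of_height (ha : ∀ j, 1 ≤ a j)
    (hh : ∀ P : PrimeSpectrum S, Ideal.ofList (forms G) ≤ P.asIdeal → (r : ℕ∞) ≤ P.asIdeal.height) :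
    RingTheory.Sequence.IsWeaklyRegular S (forms G) := by
  classical
  haveI : (vertex k n).IsPrime := vertex_isMaximal.isPrime
  let V := vertex k n
  let A := Localization.AtPrime V
  let f := algebraMap S A
  let rs := (forms G).map f
  have hGV : ∀ j, (G j : S) ∈ V := fun j =>
    le_vertex_of_isHomogeneous (J := Ideal.span ({(G j : S)} : Set S))
      (Ideal.homogeneous_span _ _ (by rintro g rfl; exact ⟨a j, (G j).2⟩))
      (fun h => by
        obtain ⟨c, hc⟩ := Ideal.mem_span_singleton'.1 (show (1 : S) ∈ Ideal.span {(G j : S)} by rw [h]; trivial)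
        have h0 : constantCoeff (G j : S) = 0 := by
          rw [constantCoeff_eq]
          exact ((mem_homogeneousSubmodule _ _).1 (G j).2).coeff_eq_zero (by simp; have := ha j; omega)
        have := congrArg constantCoeff hc
        rw [map_mul, h0, mul_zero, map_one] at this
        exact zero_ne_one this) (Ideal.subset_span rfl)
  have hmem : ∀ x ∈ rs, x ∈ IsLocalRing.maximalIdeal A := fun x hx => by
    obtain ⟨g, hg, rfl⟩ := List.mem_map.1 hx
    obtain ⟨j, rfl⟩ := mem_forms G hg
    exact (IsLocalization.AtPrime.to_map_mem_maximal_iff A V _).2 (hGV j)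
  have hlen : rs.length = r := by simp [rs, forms]
  have hA : ringKrullDim A = ((n + 1 : ℕ) : WithBot ℕ∞) := by
    rw [IsLocalization.AtPrime.ringKrullDim_eq_height V A, height_vertex]
    rfl
  have hIA : Ideal.ofList rs ≠ ⊤ := fun h => (IsLocalRing.maximalIdeal.isMaximal A).ne_top
    (top_le_iff.1 (h ▸ Ideal.span_le.2 hmem))
  haveI := Ideal.Quotient.nontrivial_iff.2 hIA
  have hreg : RingTheory.Sequence.IsWeaklyRegular A rs := by
    refine CotTLib.isWeaklyRegular_of_dim rs hmem (le_antisymm ?_ ?_)
    · let F : PrimeSpectrum (A ⧸ Ideal.ofList rs) → PrimeSpectrum S :=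
        fun Q => PrimeSpectrum.comap f (PrimeSpectrum.comap (Ideal.Quotient.mk (Ideal.ofList rs)) Q)
      have hF : StrictMono F :=
        ((Monotone.strictMono_of_injective (f := PrimeSpectrum.comap f) (fun _ _ h => Ideal.comap_mono h)
          (PrimeSpectrum.localization_comap_injective A V.primeCompl)).comp
          (RingHom.strictMono_comap_of_surjective Ideal.Quotient.mk_surjective))
      have hFr : ∀ Q, (r : ℕ∞) ≤ Order.height (F Q) := fun Q => by
        rw [← PrimeSpectrum.height_eq_orderHeight]
        refine hh _ (Ideal.span_le.2 fun g hg => ?_)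
        show Ideal.Quotient.mk (Ideal.ofList rs) (f g) ∈ Q.asIdeal
        have hfg : f g ∈ Ideal.ofList rs := Ideal.subset_span (List.mem_map.2 ⟨g, hg, rfl⟩)
        rw [Ideal.Quotient.eq_zero_iff_mem.2 hfg]
        exact zero_mem _
      have hFle : ∀ Q, F Q ≤ vertexPoint k n := fun Q g hg => by
        by_contra hgv
        exact (PrimeSpectrum.comap (Ideal.Quotient.mk (Ideal.ofList rs)) Q).2.ne_top
          (Ideal.eq_top_of_isUnit_mem _ hg (IsLocalization.map_units A (⟨g, hgv⟩ : V.primeCompl)))
      have hrn : r ≤ n + 1 := by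
        have h := hh (vertexPoint k n) (Ideal.span_le.2 fun g hg => by
          obtain ⟨j, rfl⟩ := mem_forms G hg; exact hGV j)
        rw [show (vertexPoint k n).asIdeal = vertex k n from rfl, height_vertex] at h
        exact Nat.cast_le.1 h
      have hD : ringKrullDim (A ⧸ Ideal.ofList rs) ≤ ((n + 1 - r : ℕ) : WithBot ℕ∞) := by
        refine iSup_le fun l => ?_
        have h1 := height_add_le F hF r hFr l.length l.last (Order.length_le_height_last (p := l))
        have h2 : Order.height (F l.last) ≤ ((n + 1 : ℕ) : ℕ∞) := by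
          refine (Order.height_mono (hFle l.last)).trans_eq ?_
          rw [← PrimeSpectrum.height_eq_orderHeight]
          exact height_vertex
        have h3 : r + l.length ≤ n + 1 := by exact_mod_cast h1.trans h2
        exact_mod_cast (by omega : l.length ≤ n + 1 - r)
      rw [hlen, hA]
      refine (add_le_add_right hD _).trans (le_of_eq ?_)
      exact_mod_cast (by omega : r + (n + 1 - r) = n + 1)
    · have hspan : Ideal.span (rs.toFinset : Set A) = Ideal.ofList rs :=
        congrArg Ideal.span (Set.ext fun x => List.mem_toFinset)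
      have h := ringKrullDim_le_ringKrullDim_quotient_add_card rs.toFinset (fun x hx => by
        rw [Ring.jacobson_eq_sInf_isMaximal, SetLike.mem_coe, Submodule.mem_sInf]
        intro M hM
        rw [IsLocalRing.eq_maximalIdeal hM]
        exact hmem x (List.mem_toFinset.1 hx))
      rw [hspan] at h
      refine h.trans ((add_le_add_right ?_ _).trans_eq (add_comm _ _))
      exact Nat.cast_le.2 rs.toFinset_card_le
  refine CotTLib.isWeaklyRegular_ofFn (fun j => (G j : S)) fun l x hx => ?_
  let J : Ideal S := Ideal.span ((fun j => (G j : S)) '' {j | j < l})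
  show x ∈ J
  have hJ : J.IsHomogeneous (CohB1.polyGrading n k) := Ideal.homogeneous_span _ _ fun g hg => by
    obtain ⟨j, -, rfl⟩ := hg
    exact ⟨a j, (G j).2⟩
  have hl : l.1 < rs.length := by rw [hlen]; exact l.2
  have hJA : J.map f = Ideal.ofList (rs.take l.1) := by
    rw [Ideal.map_span]
    refine congrArg Ideal.span (Set.ext fun y => ?_)
    simp only [Set.mem_image, Set.mem_setOf_eq, List.mem_take_iff_getElem, rs, forms, List.getElem_map, List.getElem_ofFn]
    constructor
    · rintro ⟨-, ⟨j, hj, rfl⟩, rfl⟩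
      exact ⟨j.1, lt_min (Fin.lt_def.1 hj) (by simp), rfl⟩
    · rintro ⟨j, hj, rfl⟩
      exact ⟨_, ⟨⟨j, lt_of_lt_of_le hj (min_le_right _ _) |>.trans_eq (by simp)⟩, Fin.lt_def.2 (lt_min_iff.1 hj).1, rfl⟩, rfl⟩
  have hJl : (Ideal.ofList (rs.take l.1) • ⊤ : Submodule A A) = J.map f := by
    rw [hJA, smul_eq_mul, Ideal.mul_top]
  have hloc : ∀ y : S, y * (G l : S) ∈ J → ∃ c ∉ V, c * y ∈ J := by
    intro y hy
    have hr := (RingTheory.Sequence.isWeaklyRegular_iff A rs).1 hreg l.1 hl
    have h1 : Submodule.Quotient.mk (p := (Ideal.ofList (rs.take l.1) • ⊤ : Submodule A A)) (f y) = 0 := by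
      refine hr.right_eq_zero_of_smul ?_
      rw [← Submodule.Quotient.mk_smul, Submodule.Quotient.mk_eq_zero, hJl, smul_eq_mul]
      have : rs[l.1] = f (G l : S) := by simp [rs, forms]
      rw [this, mul_comm, ← map_mul]
      exact Ideal.mem_map_of_mem f hy
    rw [Submodule.Quotient.mk_eq_zero, hJl] at h1
    obtain ⟨c, hc, hcy⟩ := (IsLocalization.algebraMap_mem_map_algebraMap_iff V.primeCompl A J y).1 h1
    exact ⟨c, hc, hcy⟩
  rw [← DirectSum.sum_support_decompose (CohB1.polyGrading n k) x]
  refine Ideal.sum_mem _ fun d _ => ?_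
  obtain ⟨c, hc, hcy⟩ := hloc (DirectSum.decompose (CohB1.polyGrading n k) x d : S) (by
    rw [← DirectSum.coe_decompose_mul_add_of_right_mem (CohB1.polyGrading n k) (i := d) (a := x) (G l).2]
    exact hJ (d + a l) hx)
  have h0 := hJ (0 + d) hcy
  rw [DirectSum.coe_decompose_mul_add_of_right_mem (CohB1.polyGrading n k)
    (SetLike.coe_mem _)] at h0
  rw [proj_apply, homogeneousComponent_zero] at h0
  exact (Ideal.unit_mul_mem_iff_mem J ((isUnit_iff_ne_zero.2 hc).map C)).1 h0

end Groth.Agent.GrLib8.CICoh
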